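import Cfsg.Agent.H678.PV.Pair
import Cfsg.Agent.H492.IMHe
import Cfsg.Agent.Prune
set_option linter.all false
prune_inst 0x7f00000000000000000000000000000000000000000000000000000000000000000000000000000000000000000000000000000000000000000000000000000000000000000000000000000000000000003fffffffffffffffffffffffffffbeffbdffffffff
open scoped Cfsg.Agent.FastGrp

/-!
# `He`, `p = 7` (helper678)

An element of order 7 with the centraliser `7 × L₃(2)`.
-/

set_option autoImplicit false
set_option maxRecDepth 100000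

universe u

namespace Cfsg.Agent.H678.PV

open Subgroup Cfsg
open Cfsg.Agent.H665.NoPQ Cfsg.Agent.H713 Cfsg.Agent.H620.PNorm

namespace HeSeven

open Cfsg.Spor.He (Gen)
open Cfsg.Agent.SporadicB.HePerm (act wd)
open Cfsg.Agent.FixBN.HeStab Cfsg.Agent.KFacts.He.Lv Cfsg.Agent.CpAutHe.Cnt
open Cfsg.Agent.H492.IMHeCnt Cfsg.Agent.H492.IMHeDat Cfsg.Agent.H492.IMTools
open Cfsg.Agent.H492.IMHe (o1 o2 o4 o7 oy7 oz73 pair arith7 dvd_cent Z73)

theorem main : VOrdP 7 Cfsg.Spor.He := by
  have fp7 : Fact (Nat.Prime 7) := ⟨by norm_num⟩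
  have hfin : Finite Cfsg.Spor.He := Nat.finite_of_card_ne_zero (by rw [card_he]; norm_num)
  have hp := pair (p := 7) XB7 YB7 _ o7 oy7 (by decide +kernel) (by decide +kernel)
    (by norm_num) qB7
  have hle : Nat.card (centralizer ({wd XB7} : Set Cfsg.Spor.He)) ≤ 1176 :=
    Cfsg.Agent.CpAutHe.Bound.card0
  have h3 : 3 ∣ Nat.card (centralizer ({wd XB7} : Set Cfsg.Spor.He)) :=
    dvd_cent (comm_of_chk (by decide +kernel)) oz73
  have h4 : 4 ∣ Nat.card (centralizer ({wd XB7} : Set Cfsg.Spor.He)) :=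
    dvd_cent (comm_of_chk (by decide +kernel)) o4
  have h0 : 0 < Nat.card (centralizer ({wd XB7} : Set Cfsg.Spor.He)) := Nat.card_pos
  obtain ⟨m, hm⟩ := hp.1
  have hm' := arith7 hle h3 h4 h0 hm
  have hm7 : ¬ 7 ∣ m := by rcases hm' with rfl | rfl <;> decide
  refine vOrdP_of_pair (x := wd XB7) (y := wd YB7) o7 oy7 (comm_of_chk (by decide +kernel))
    (not_mem_zpowers_of (by norm_num) o7 (by decide +kernel)) hp.2 hm hm7 {1, 2, 3, 4} ?_ ?_ ?_
  · intro n hn
    simp only [Finset.mem_insert, Finset.mem_singleton] at hn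
    rcases hn with rfl | rfl | rfl | rfl
    exacts [⟨by norm_num, _, comm_of_chk (by decide +kernel), o1⟩,
      ⟨by norm_num, _, comm_of_chk (by decide +kernel), o2⟩,
      ⟨by norm_num, _, comm_of_chk (by decide +kernel), oz73⟩,
      ⟨by norm_num, _, comm_of_chk (by decide +kernel), o4⟩]
  · rcases hm' with rfl | rfl
    · intro h; exact absurd h (by decide)
    · intro _; decide
  · rw [card_he]; norm_num

end HeSeven

/-- **`He`, `p = 7`.** -/
theorem he_7 {K : Type u} [Group K] (h : Spor.IsoHe K) : VOrdP 7 K := by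
  obtain ⟨e⟩ := h
  exact HeSeven.main.mulEquiv e.symm

end Cfsg.Agent.H678.PV
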