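import Cfsg.Agent.S0924
import Cfsg.Agent.H620.PNorm
import Cfsg.Agent.H665.NoPQ
import Cfsg.Agent.H665.Psl2Char
import Cfsg.Agent.H678.DG.BlkRel
import Cfsg.Agent.Prune
set_option linter.all false
prune_inst 0x7f00000000000000000000000000000000000000000000000000000000000000000000000000000000000000000000000000000000000000000000000000000000000000000000000000000000000000003fffffffffffffffffffffffffffbeffbdffffffff
open scoped Cfsg.Agent.FastGrp

/-!
# Vanishing outside the defect groups (helper678)

Tools for the rows `VPow p S` and `VOrdP p S` of S4555 and S4559.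

* `exists_block` : a `p`-subgroup `Q`, a character of `C(Q)` of defect zero modulo `Q ∩ C(Q)`, all `p`-elements of `N(Q)`
  in `Q C(Q)`: some `p`-block has the defect group `Q`;
* `exists_block_of_normal` : the same with a subgroup `K` of `C(Q)`, normalised by `C(Q)`, with a character of defect zero
  and with `|C(Q)|_p = |Q ∩ C(Q)|_p |K|_p`;
* `exists_block_one`, `exists_block_one_of_normal` : `Q = ⟨x⟩` of order `p`;
* `zero_of_block` : the characters of the block vanish at the `p`-elements not conjugate into `Q`;
* `vz_of_block` : elements of order a power of `p`, none of whose automorphic images lies in `Q`, are `VZ`;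
* `vz_of_card`, `vz_of_card_ne`, `vz_of_sq` : criteria with the orders of the centralisers;
* `vOrdP_of_cent`, `vPow_of_sq` : the final form for `Q = ⟨x⟩`.
-/

set_option autoImplicit false
set_option linter.unusedSectionVars false

namespace Cfsg.Agent.H678.PV

open Cfsg Subgroup
open Cfsg.Agent.Characters.Core Cfsg.Agent.Blocks.Basic Cfsg.Agent.Blocks.Local
open Cfsg.Agent.H665.NoPQ Cfsg.Agent.H713 Cfsg.Agent.H620.PNorm

universe u

variable {G : Type u} [Group G] [Finite G] {p : ℕ} [hp : Fact p.Prime] {M : Ideal AlgInt}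

/-- The `p`-part of the degree of a character of `C(Q)` is at most `|C(Q) : Q ∩ C(Q)|`. -/
theorem factorization_add_le (Q : Subgroup G) (θ : IrrCharacter (centralizer (Q : Set G))) :
    (charDegree (θ : centralizer (Q : Set G) → ℂ)).factorization p +
      (Nat.card ↥(Q ⊓ centralizer (Q : Set G))).factorization p ≤
      (Nat.card (centralizer (Q : Set G))).factorization p := by
  obtain ⟨d, ρ, hρ, hχ⟩ := θ.2
  have hZ : Q.subgroupOf (centralizer (Q : Set G)) ≤ center (centralizer (Q : Set G)) :=
    H686.PairCrit.subgroupOf_le_center Q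
  have hn : (Q.subgroupOf (centralizer (Q : Set G))).Normal := by
    constructor
    intro x hx g
    have h1 := mem_center_iff.1 (hZ hx) g
    rw [h1, mul_inv_cancel_right]
    exact hx
  have hdvd := S0169.result ρ (Q.subgroupOf (centralizer (Q : Set G)))
    (fun a ha b _ => ((mem_center_iff.1 (hZ ha)) b).symm)
  have h2 : charDegree (θ : centralizer (Q : Set G) → ℂ) = d := by
    apply H670.PSing.charDegree_eq_of
    rw [← hχ, Representation.char_one]
    simp
  rw [Module.finrank_fin_fun, ← h2] at hdvd
  have h3 := (Nat.factorization_le_iff_dvd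
    (charDegree_pos θ.2).ne' index_ne_zero_of_finite).2 hdvd p
  have h4 : Nat.card (Q.subgroupOf (centralizer (Q : Set G))) =
      Nat.card ↥(Q ⊓ centralizer (Q : Set G)) := by
    have h5 : Nat.card ((Q.subgroupOf (centralizer (Q : Set G))).map
        (centralizer (Q : Set G)).subtype) =
        Nat.card (Q.subgroupOf (centralizer (Q : Set G))) :=
      card_map_of_injective (subtype_injective _)
    rw [subgroupOf_map_subtype] at h5
    exact h5.symm
  have h6 := (Q.subgroupOf (centralizer (Q : Set G))).card_mul_index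
  rw [← h6, h4, Nat.factorization_mul Nat.card_pos.ne' index_ne_zero_of_finite,
    Finsupp.add_apply]
  omega

/-- **A block with the defect group `Q`.** -/
theorem exists_block (hM : IsPModular p M) {Q : Subgroup G} (hQ : IsPGroup p Q)
    (θ : IrrCharacter (centralizer (Q : Set G)))
    (hdeg : (Nat.card (centralizer (Q : Set G))).factorization p ≤
      (charDegree (θ : centralizer (Q : Set G) → ℂ)).factorization p +
        (Nat.card ↥(Q ⊓ centralizer (Q : Set G))).factorization p)
    (hst : ∀ g ∈ normalizer (Q : Set G), (∃ k : ℕ, orderOf g = p ^ k) → g ∈ Q ⊔ centralizer (Q : Set G)) :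
    ∃ B : Set (IrrCharacter G), IsPBlock M B ∧ IsDefectGroup p M B Q := by
  have : M.IsPrime := isPrime_of_isPModular hM
  set b : Set (IrrCharacter (centralizer (Q : Set G))) := blockOf M (θ : centralizer (Q : Set G) → ℂ) with hb
  have hbB : IsPBlock M b := ⟨θ, rfl⟩
  have hθb : θ ∈ b := mem_blockOf_self θ
  obtain ⟨B, hB⟩ := H686.PairCrit.crit_mpr hM (Q := Q) (e := b) ⟨hQ, hbB⟩ hθb
    (le_antisymm (factorization_add_le Q θ) hdeg) (fun g hg _ hk => hst g hg hk)
  exact ⟨B, hB.1.2.1, H644.isDefectGroup_of_isMaximalBrauerPair hM hB⟩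

/-- A block with the defect group `Q`, from a subgroup `K` of `C(Q)` normalised by `C(Q)`. -/
theorem exists_block_of_normal (hM : IsPModular p M) {Q : Subgroup G} (hQ : IsPGroup p Q) {K : Subgroup G}
    (hK : K ≤ centralizer (Q : Set G)) (hn : ∀ c ∈ centralizer (Q : Set G), ∀ k ∈ K, c * k * c⁻¹ ∈ K)
    (hdz : HasDZ p K)
    (hcard : (Nat.card (centralizer (Q : Set G))).factorization p ≤
      (Nat.card K).factorization p + (Nat.card ↥(Q ⊓ centralizer (Q : Set G))).factorization p)
    (hst : ∀ g ∈ normalizer (Q : Set G), (∃ k : ℕ, orderOf g = p ^ k) → g ∈ Q ⊔ centralizer (Q : Set G)) :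
    ∃ B : Set (IrrCharacter G), IsPBlock M B ∧ IsDefectGroup p M B Q := by
  have hN : (K.subgroupOf (centralizer (Q : Set G))).Normal := by
    constructor
    intro k hk c
    rw [mem_subgroupOf] at hk ⊢
    exact hn c c.2 k hk
  obtain ⟨ϑ, hϑ⟩ := hdz
  obtain ⟨ψ, hψ⟩ := H665.Psl2Char.exists_irr_of_equiv (subgroupOfEquivOfLe hK) ϑ
  obtain ⟨θ, hθ⟩ := H665.Psl2Char.exists_over_dvd (K.subgroupOf (centralizer (Q : Set G))) ψ
  refine exists_block hM hQ θ ?_ hst
  rw [hψ] at hθ
  have h1 := (Nat.factorization_le_iff_dvd (charDegree_pos ϑ.2).ne' (charDegree_pos θ.2).ne').2 hθ p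
  omega

/-- **A block with a defect group of order `p`.** -/
theorem exists_block_one (hM : IsPModular p M) {x : G} (hx : orderOf x = p)
    (θ : IrrCharacter (centralizer ({x} : Set G)))
    (hdeg : (Nat.card (centralizer ({x} : Set G))).factorization p ≤
      (charDegree (θ : centralizer ({x} : Set G) → ℂ)).factorization p + 1) :
    ∃ B : Set (IrrCharacter G), IsPBlock M B ∧ IsDefectGroup p M B (zpowers x) := by
  have hcard : Nat.card (zpowers x) = p := by rw [Nat.card_zpowers, hx]
  have hQ : IsPGroup p (zpowers x) := IsPGroup.iff_card.2 ⟨1, by rw [hcard, pow_one]⟩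
  revert θ hdeg
  rw [H870.IMLocal.centralizer_zpowers]
  intro θ hdeg
  have hle : zpowers x ≤ centralizer ((zpowers x : Subgroup G) : Set G) := by
    rw [← H870.IMLocal.centralizer_zpowers, zpowers_le, mem_centralizer_singleton_iff]
  refine exists_block hM hQ θ ?_ fun g hg hk =>
    mem_sup_right (H870.IMLocal.mem_centralizer_of_normalizer hx hg hk)
  rw [inf_eq_left.2 hle, hcard, hp.out.factorization_self]
  exact hdeg

/-- A block with a defect group of order `p`, from a subgroup `K` of `C(x)` normalised by `C(x)`. -/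
theorem exists_block_one_of_normal (hM : IsPModular p M) {x : G} (hx : orderOf x = p) {K : Subgroup G}
    (hK : K ≤ centralizer ({x} : Set G)) (hn : ∀ c ∈ centralizer ({x} : Set G), ∀ k ∈ K, c * k * c⁻¹ ∈ K)
    (hdz : HasDZ p K)
    (hcard : (Nat.card (centralizer ({x} : Set G))).factorization p ≤ (Nat.card K).factorization p + 1) :
    ∃ B : Set (IrrCharacter G), IsPBlock M B ∧ IsDefectGroup p M B (zpowers x) := by
  have hcardx : Nat.card (zpowers x) = p := by rw [Nat.card_zpowers, hx]
  have hQ : IsPGroup p (zpowers x) := IsPGroup.iff_card.2 ⟨1, by rw [hcardx, pow_one]⟩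
  rw [H870.IMLocal.centralizer_zpowers] at hK hn hcard
  have hle : zpowers x ≤ centralizer ((zpowers x : Subgroup G) : Set G) := by
    rw [← H870.IMLocal.centralizer_zpowers, zpowers_le, mem_centralizer_singleton_iff]
  refine exists_block_of_normal hM hQ hK hn hdz ?_ fun g hg hk =>
    mem_sup_right (H870.IMLocal.mem_centralizer_of_normalizer hx hg hk)
  rw [inf_eq_left.2 hle, hcardx, hp.out.factorization_self]
  exact hcard

/-- A `p`-element is its own `p`-part. -/
theorem isPPart_self {y : G} (hy : ∃ j : ℕ, orderOf y = p ^ j) : IsPPart p y y :=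
  ⟨1, mul_one y, Commute.one_right y, hy, by rw [orderOf_one, Nat.dvd_one]; exact hp.out.ne_one⟩

/-- **Vanishing outside the defect group.** -/
theorem zero_of_block (hM : IsPModular p M) {B : Set (IrrCharacter G)} (hB : IsPBlock M B) {Q : Subgroup G}
    (hQ : IsDefectGroup p M B Q) {χ : IrrCharacter G} (hχ : χ ∈ B) {y : G} (hy : ∃ j : ℕ, orderOf y = p ^ j)
    (hyQ : ∀ g : G, g * y * g⁻¹ ∉ Q) : (χ : G → ℂ) y = 0 := by
  have : M.IsPrime := isPrime_of_isPModular hM
  refine S0924.result p M hM χ y y (isPPart_self hy) fun D hD hyD => ?_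
  rw [← isPBlock_eq_blockOf hB hχ] at hD
  obtain ⟨g, hg⟩ := H644.exists_conj_of_isDefectGroup hM hB hD hQ
  apply hyQ g
  rw [← hg]
  exact ⟨y, hyD, rfl⟩

/-- Elements of order a power of `p`, none of whose automorphic images is conjugate into the defect group. -/
theorem vz_of_block (hM : IsPModular p M) {B : Set (IrrCharacter G)} (hB : IsPBlock M B) {Q : Subgroup G}
    (hQ : IsDefectGroup p M B Q) {y : G} (hy : ∃ j : ℕ, orderOf y = p ^ j) (hyQ : ∀ α : MulAut G, α y ∉ Q) :
    VZ G y := by
  have : M.IsPrime := isPrime_of_isPModular hM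
  obtain ⟨χ, rfl⟩ := hB
  refine ⟨χ, fun α => zero_of_block hM ⟨χ, rfl⟩ hQ (mem_blockOf_self χ) ?_ fun g hg => ?_⟩
  · rwa [MulEquiv.orderOf_eq]
  · exact hyQ (MulAut.conj g * α) (by simpa using hg)

/-- The order of the centraliser is invariant under automorphisms. -/
theorem card_centralizer_aut (α : MulAut G) (y : G) :
    Nat.card (centralizer ({α y} : Set G)) = Nat.card (centralizer ({y} : Set G)) := by
  have h : centralizer ({α y} : Set G) = (centralizer ({y} : Set G)).map α.toMonoidHom := by
    ext z
    rw [mem_map_equiv, mem_centralizer_singleton_iff, mem_centralizer_singleton_iff]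
    constructor
    · intro hz
      have := congrArg α.symm hz
      simpa using this
    · intro hz
      have := congrArg α hz
      simpa using this
  rw [h]
  exact card_map_of_injective α.injective

/-- Elements whose centraliser has another order than those of the elements of the same order in `Q`. -/
theorem vz_of_card_ne (hM : IsPModular p M) {B : Set (IrrCharacter G)} (hB : IsPBlock M B) {Q : Subgroup G}
    (hQ : IsDefectGroup p M B Q) {y : G} (hy : ∃ j : ℕ, orderOf y = p ^ j)
    (hne : ∀ z ∈ Q, orderOf z = orderOf y →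
      Nat.card (centralizer ({z} : Set G)) ≠ Nat.card (centralizer ({y} : Set G))) : VZ G y := by
  refine vz_of_block hM hB hQ hy fun α hα => hne (α y) hα (MulEquiv.orderOf_eq α y) (card_centralizer_aut α y)

/-- In a group of order `p` all elements of order `p` have the same centraliser. -/
theorem card_centralizer_zpowers {x z : G} (hx : orderOf x = p) (hz : z ∈ zpowers x) (hzo : orderOf z = p) :
    Nat.card (centralizer ({z} : Set G)) = Nat.card (centralizer ({x} : Set G)) := by
  have h1 : zpowers z = zpowers x := by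
    apply Subgroup.eq_of_le_of_card_ge
    · rwa [zpowers_le]
    · rw [Nat.card_zpowers, Nat.card_zpowers, hx, hzo]
  rw [H870.IMLocal.centralizer_zpowers, H870.IMLocal.centralizer_zpowers x, h1]

/-- **Rows for S4559**: `x` of order `p`, `K ≤ C(x)` normalised by `C(x)` with a character of defect zero and
`|C(x)|_p ≤ p |K|_p`, and an element `y` of order `p` with `|C(y)| ≠ |C(x)|`. -/
theorem vOrdP_of_cent {x y : G} (hx : orderOf x = p) {K : Subgroup G}
    (hK : K ≤ centralizer ({x} : Set G)) (hn : ∀ c ∈ centralizer ({x} : Set G), ∀ k ∈ K, c * k * c⁻¹ ∈ K)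
    (hdz : HasDZ p K)
    (hcard : (Nat.card (centralizer ({x} : Set G))).factorization p ≤ (Nat.card K).factorization p + 1)
    (hy : orderOf y = p) (hne : Nat.card (centralizer ({y} : Set G)) ≠ Nat.card (centralizer ({x} : Set G))) :
    VOrdP p G := by
  obtain ⟨M, hM⟩ := Cfsg.Agent.Blocks.Knorr.exists_isPModular p
  obtain ⟨B, hB, hQ⟩ := exists_block_one_of_normal hM hx hK hn hdz hcard
  refine ⟨y, hy, vz_of_card_ne hM hB hQ ⟨1, by rw [hy, pow_one]⟩ fun z hz hzo => ?_⟩
  rw [card_centralizer_zpowers hx hz (hzo.trans hy)]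
  exact hne.symm

end Cfsg.Agent.H678.PV
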