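import Cfsg.Agent.H678.PV.Pair
import Cfsg.Agent.H600.AltIM_m3
import Cfsg.Agent.FastGrp
import Cfsg.Agent.Prune
set_option linter.all false
prune_inst 0x7f00000000000000000000000000000000000000000000000000000000000000000000000000000000000000000000000000000000000000000000000000000000000000000000000000000000000000003fffffffffffffffffffffffffffbeffbdffffffff
open scoped Cfsg.Agent.FastGrp

-- part: H678/PV/Aut
section
/-!
# Rows of S4555 / S4559: the second element is separated by its centraliser (helper678)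

* `vOrdP_of_hom'`, `vOrdP_of_direct'` : versions with an element `y` of order `p` which no automorphism moves into `⟨x⟩`;
* `aut_not_mem` : this is so if `y` commutes with an element of order `n` and `x` does not;
* `aut_not_mem_card` : ... if `|C(y)| ≠ |C(x)|`;
* `no_four` : a Sylow 2-subgroup of order 4 and exponent 2 excludes elements of order 4.
-/

set_option autoImplicit false
set_option linter.unusedSectionVars false

namespace Cfsg.Agent.H678.PV

open Cfsg Subgroup
open Cfsg.Agent.Characters.Core Cfsg.Agent.Blocks.Basic Cfsg.Agent.Blocks.Local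
open Cfsg.Agent.H665.NoPQ Cfsg.Agent.H713 Cfsg.Agent.H620.PNorm

universe u v

variable {G : Type u} [Group G] [Finite G] {p : ℕ} [hp : Fact p.Prime]

/-- **Row from a character of `C(x)` of degree divisible by `p` and a second element.** -/
theorem vOrdP_of_im'' {x : G} (hx : orderOf x = p) (h3 : ¬ p ^ 3 ∣ Nat.card (centralizer ({x} : Set G)))
    (him : H33.IM p (centralizer ({x} : Set G)))
    {y : G} (hy : orderOf y = p) (hne : ∀ α : MulAut G, α y ∉ zpowers x) : VOrdP p G := by
  obtain ⟨M, hM⟩ := Cfsg.Agent.Blocks.Knorr.exists_isPModular p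
  obtain ⟨B, hB, hQ⟩ := exists_block_im hM hx h3 him
  exact ⟨y, hy, vz_of_block hM hB hQ ⟨1, by rw [hy, pow_one]⟩ hne⟩

theorem zpowers_eq_of_mem {x z : G} (hx : orderOf x = p) (hz : z ∈ zpowers x) (hzo : orderOf z = p) :
    zpowers z = zpowers x := by
  apply Subgroup.eq_of_le_of_card_ge
  · rwa [zpowers_le]
  · rw [Nat.card_zpowers, Nat.card_zpowers, hx, hzo]

/-- `y` commutes with an element of order `n`, `x` does not. -/
theorem aut_not_mem {x y : G} (hx : orderOf x = p) (hy : orderOf y = p) {u : G} (huy : u * y = y * u)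
    (hno : ∀ z : G, z * x = x * z → orderOf z ≠ orderOf u) : ∀ α : MulAut G, α y ∉ zpowers x := by
  intro α hα
  have h1 := zpowers_eq_of_mem hx hα (by rw [MulEquiv.orderOf_eq, hy])
  have h2 : Commute (α u) (α y) := by
    have := congrArg α huy
    rwa [map_mul, map_mul] at this
  obtain ⟨k, hk⟩ := mem_zpowers_iff.1 (h1 ▸ mem_zpowers x : x ∈ zpowers (α y))
  have h3 : Commute (α u) x := by
    rw [← hk]
    exact h2.zpow_right k
  exact hno (α u) h3.eq (MulEquiv.orderOf_eq α u)

/-- A group with a subgroup of order 4 and exponent 2, of order not divisible by 8: no elements of order 4. -/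
theorem no_four {C : Type u} [Group C] [Finite C] (V : Subgroup C) (hV : Nat.card V = 4) (hsq : ∀ v ∈ V, v * v = 1)
    (h8 : ¬ 8 ∣ Nat.card C) (u : C) : orderOf u ≠ 4 := by
  intro hu
  have h2 : Fact (Nat.Prime 2) := ⟨Nat.prime_two⟩
  have hVp : IsPGroup 2 V := IsPGroup.of_card (n := 2) (by rw [hV]; norm_num)
  obtain ⟨S, hS⟩ := hVp.exists_le_sylow
  have hUp : IsPGroup 2 (zpowers u) := IsPGroup.of_card (n := 2) (by rw [Nat.card_zpowers, hu]; norm_num)
  obtain ⟨T, hT⟩ := hUp.exists_le_sylow
  have hcS : Nat.card S = 4 := by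
    obtain ⟨n, hn⟩ := IsPGroup.iff_card.1 S.isPGroup'
    have h1 : 4 ∣ Nat.card S := hV ▸ card_dvd_of_le hS
    have hSC : Nat.card S ∣ Nat.card C := card_subgroup_dvd_card _
    have h3 : n < 3 := by
      by_contra h
      push Not at h
      apply h8
      refine Dvd.dvd.trans ?_ hSC
      rw [hn, show 8 = 2 ^ 3 by norm_num]
      exact pow_dvd_pow 2 h
    have h4 : 2 ≤ n := by
      by_contra h
      push Not at h
      rw [hn] at h1
      interval_cases n <;> norm_num at h1
    have : n = 2 := by omega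
    rw [hn, this]; norm_num
  have hSV : (S : Subgroup C) = V := (Subgroup.eq_of_le_of_card_ge hS (by rw [hV]; exact hcS.le)).symm
  obtain ⟨g, hg⟩ := MulAction.exists_smul_eq C T S
  have h5 : g * u * g⁻¹ ∈ V := by
    rw [← hSV, ← hg]
    exact ⟨u, hT (mem_zpowers u), rfl⟩
  have h6 := hsq _ h5
  have h7 : u * u = 1 := by
    have : g * (u * u) * g⁻¹ = 1 := by rw [← h6]; group
    have h8 : u * u = g⁻¹ * (g * (u * u) * g⁻¹) * g := by group
    rw [h8, this]; group
  have h9 : orderOf u ∣ 2 := orderOf_dvd_of_pow_eq_one (by rw [pow_two]; exact h7)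
  rw [hu] at h9
  norm_num at h9

end Cfsg.Agent.H678.PV
end

-- part: H678/PV/Alt
section
/-!
# Alternating groups with a Sylow subgroup of order `p` (helper678)
-/

set_option autoImplicit false

namespace Cfsg.Agent.H678.PV

open Cfsg Subgroup
open Cfsg.Agent.H665.NoPQ Cfsg.Agent.H713 Cfsg.Agent.H620.PNorm

theorem card_alt (n : ℕ) (hn : 2 ≤ n) : Nat.card (alternatingGroup (Fin n)) = n.factorial / 2 := by
  have : Nontrivial (Fin n) := Fin.nontrivial_iff_two_le.2 hn
  have h1 := two_mul_nat_card_alternatingGroup (α := Fin n)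
  rw [Nat.card_perm, Nat.card_fin] at h1
  omega

/-- `p` exactly divides `n! / 2`. -/
theorem im_alt (n : ℕ) (hn : 5 ≤ n) {p : ℕ} (hp : p.Prime) (h1 : p ∣ n.factorial / 2) :
    H33.IM p (alternatingGroup (Fin n)) := by
  have : Fact p.Prime := ⟨hp⟩
  exact H600.AltDeg.im_alt hn (by rw [card_alt n (by omega)]; exact h1)

theorem hasDZ_alt (n : ℕ) (hn : 5 ≤ n) {p : ℕ} (hp : p.Prime) (h1 : p ∣ n.factorial / 2)
    (h2 : ¬ p ^ 2 ∣ n.factorial / 2) : HasDZ p (alternatingGroup (Fin n)) :=
  hasDZ_of_im hp (im_alt n hn hp h1) (by rw [card_alt n (by omega)]; exact h2)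

end Cfsg.Agent.H678.PV
end
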