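import Cfsg.Agent.H678.PV.Cent
import Cfsg.Agent.S0188
import Cfsg.Agent.H33.IM
import Cfsg.Agent.H419.TwoTrans_m3
import Cfsg.Agent.H492.IMPair_m3
import Cfsg.Agent.FastGrp
import Cfsg.Agent.Prune
set_option linter.all false

section
prune_inst 0x7f00000000000000000000000000000000000000000000000000000000000000000000000000000000000000000000000000000000000000000000000000000000000000000000000000000000000000003fffffffffffffffffffffffffffbeffbdffffffff

-- part: H678/PV/Direct
section
set_option linter.all false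
open scoped Cfsg.Agent.FastGrp

/-!
# Rows of S4555 / S4559: centralisers `⟨x⟩ × K` and `(⟨x⟩ × K).2` (helper678)

* `hasDZ_prod`, `hasDZ_over`, `hasDZ_of_im` : characters of defect zero of direct products, of extensions by `p'`-groups,
  of groups with a Sylow subgroup of order `p`;
* `conj_mem_one`, `conj_mem_two` : `K` is normalised by `C(x)`;
* `Dat` : the data `x`, `K`, `|C(x)| = m p |K|`;
* `vOrdP_one`, `vOrdP_two` : the rows.
-/

set_option autoImplicit false
set_option linter.unusedSectionVars false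

namespace Cfsg.Agent.H678.PV

open Cfsg Subgroup
open scoped commutatorElement
open Cfsg.Agent.Characters.Core Cfsg.Agent.Blocks.Basic Cfsg.Agent.Blocks.Local
open Cfsg.Agent.H665.NoPQ Cfsg.Agent.H713 Cfsg.Agent.H620.PNorm

universe u v

theorem hasDZ_congr {G : Type u} {H : Type v} [Group G] [Group H] [Finite G] (e : G ≃* H) {p : ℕ} (h : HasDZ p G) :
    HasDZ p H := H419.Row.DZ.mulEquiv e h

/-- Direct products. -/
theorem hasDZ_prod {G : Type u} {H : Type v} [Group G] [Group H] [Finite G] [Finite H] {p : ℕ}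
    (hG : HasDZ p G) (hH : HasDZ p H) : HasDZ p (G × H) := by
  obtain ⟨φ, hφ⟩ := hG
  obtain ⟨ψ, hψ⟩ := hH
  have h1 := (S0188.result (fun x : G × H => (φ : G → ℂ) x.1 * (ψ : H → ℂ) x.2)).2 ⟨_, _, φ.2, ψ.2, rfl⟩
  refine ⟨⟨_, h1⟩, ?_⟩
  have h2 : charDegree (fun x : G × H => (φ : G → ℂ) x.1 * (ψ : H → ℂ) x.2) =
      charDegree (φ : G → ℂ) * charDegree (ψ : H → ℂ) := by
    apply H670.PSing.charDegree_eq_of
    rw [Nat.cast_mul]
    show (φ : G → ℂ) 1 * (ψ : H → ℂ) 1 = _
    rw [irr_one_eq_charDegree φ.2, irr_one_eq_charDegree ψ.2]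
  show (charDegree (fun x : G × H => (φ : G → ℂ) x.1 * (ψ : H → ℂ) x.2)).factorization p = _
  rw [h2, Nat.factorization_mul (charDegree_pos φ.2).ne' (charDegree_pos ψ.2).ne', Nat.card_prod,
    Nat.factorization_mul Nat.card_pos.ne' Nat.card_pos.ne', Finsupp.add_apply, Finsupp.add_apply, hφ, hψ]

/-- A normal subgroup of index prime to `p`. -/
theorem hasDZ_over {G : Type u} [Group G] [Finite G] {p : ℕ} (hp : p.Prime) (N : Subgroup G) [N.Normal]
    (h : HasDZ p N) (hi : ¬ p ∣ N.index) : HasDZ p G := by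
  obtain ⟨ψ, hψ⟩ := h
  obtain ⟨θ, hθ⟩ := H665.Psl2Char.exists_over_dvd N ψ
  refine H419.Row.dz_of_dvd (n := (Nat.card N).factorization p) θ ?_ ?_ hp
  · rw [← hψ]
    exact (Nat.ordProj_dvd _ _).trans hθ
  · rw [← N.card_mul_index, Nat.factorization_mul Nat.card_pos.ne' index_ne_zero_of_finite, Finsupp.add_apply,
      Nat.factorization_eq_zero_of_not_dvd hi, add_zero]

/-- Groups with a Sylow subgroup of order at most `p`. -/
theorem hasDZ_of_im {G : Type u} [Group G] [Finite G] {p : ℕ} (hp : p.Prime) (h : H33.IM p G)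
    (h2 : ¬ p ^ 2 ∣ Nat.card G) : HasDZ p G := by
  obtain ⟨χ, hχ⟩ := h
  refine H419.Row.dz_of_dvd (n := 1) χ (by rwa [pow_one]) ?_ hp
  have h3 : p ∣ Nat.card G := hχ.trans (Cfsg.Agent.Blocks.Knorr.charDegree_dvd χ.2)
  have h4 := (hp.dvd_iff_one_le_factorization Nat.card_pos.ne').1 h3
  have h5 : ¬ 2 ≤ (Nat.card G).factorization p := fun h => h2 ((hp.pow_dvd_iff_le_factorization Nat.card_pos.ne').2 h)
  omega

section norm

variable {G : Type u} [Group G] [Finite G] {x : G} {K : Subgroup G}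

theorem card_sup_of_commute (A B : Subgroup G) (hAB : ∀ a ∈ A, ∀ b ∈ B, Commute a b)
    (h : A ⊓ B = ⊥) : Nat.card ↥(A ⊔ B) = Nat.card ↥A * Nat.card ↥B := by
  let f := MonoidHom.noncommCoprod A.subtype B.subtype (fun a b => hAB a a.2 b b.2)
  have hf : Function.Injective f := by
    refine (MonoidHom.noncommCoprod_injective _ _ _).2 ⟨A.subtype_injective, B.subtype_injective, ?_⟩
    rw [range_subtype, range_subtype, disjoint_iff]
    exact h
  have hr : f.range = A ⊔ B := by
    refine (MonoidHom.noncommCoprod_range _ _ _).trans ?_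
    rw [range_subtype, range_subtype]
  rw [← hr, ← Nat.card_congr (MonoidHom.ofInjective hf).toEquiv, Nat.card_prod]

theorem commute_of_le (hK : K ≤ centralizer ({x} : Set G)) : ∀ a ∈ zpowers x, ∀ b ∈ K, Commute a b := by
  rintro _ ⟨n, rfl⟩ b hb
  exact (Commute.zpow_left (mem_centralizer_singleton_iff.1 (hK hb)).symm n)

theorem sup_le (hK : K ≤ centralizer ({x} : Set G)) : zpowers x ⊔ K ≤ centralizer ({x} : Set G) := by
  refine _root_.sup_le ?_ hK
  rw [zpowers_le, mem_centralizer_singleton_iff]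

theorem card_sup (hK : K ≤ centralizer ({x} : Set G)) (hd : zpowers x ⊓ K = ⊥) :
    Nat.card ↥(zpowers x ⊔ K) = orderOf x * Nat.card K := by
  rw [card_sup_of_commute _ _ (commute_of_le hK) hd, Nat.card_zpowers]

/-- elements of `⟨x⟩ K` -/
theorem exists_of_mem_sup (hK : K ≤ centralizer ({x} : Set G)) {g : G} (hg : g ∈ zpowers x ⊔ K) :
    ∃ a ∈ zpowers x, ∃ k ∈ K, g = a * k := by
  let f := MonoidHom.noncommCoprod (zpowers x).subtype K.subtype (fun a b => commute_of_le hK a a.2 b b.2)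
  have hr : f.range = zpowers x ⊔ K := by
    refine (MonoidHom.noncommCoprod_range _ _ _).trans ?_
    rw [range_subtype, range_subtype]
  rw [← hr] at hg
  obtain ⟨⟨a, b⟩, rfl⟩ := hg
  exact ⟨a, a.2, b, b.2, rfl⟩

/-- `K` is normalised by `C(x) = ⟨x⟩ K`. -/
theorem conj_mem_one (hK : K ≤ centralizer ({x} : Set G)) (hd : zpowers x ⊓ K = ⊥)
    (hle : Nat.card (centralizer ({x} : Set G)) ≤ orderOf x * Nat.card K) :
    ∀ c ∈ centralizer ({x} : Set G), ∀ k ∈ K, c * k * c⁻¹ ∈ K := by
  have h1 : zpowers x ⊔ K = centralizer ({x} : Set G) :=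
    eq_of_le_of_card_ge (sup_le hK) (by rw [card_sup hK hd]; exact hle)
  intro c hc k hk
  rw [← h1] at hc
  obtain ⟨a, ha, b, hb, rfl⟩ := exists_of_mem_sup hK hc
  have h2 := (commute_of_le hK a ha (b * k * b⁻¹) (mul_mem (mul_mem hb hk) (inv_mem hb))).eq
  have h3 : a * b * k * (a * b)⁻¹ = b * k * b⁻¹ := by
    calc a * b * k * (a * b)⁻¹ = a * (b * k * b⁻¹) * a⁻¹ := by group
      _ = (b * k * b⁻¹) * a * a⁻¹ := by rw [h2]
      _ = b * k * b⁻¹ := by group
  rw [h3]
  exact mul_mem (mul_mem hb hk) (inv_mem hb)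

/-- a perfect subgroup of `⟨x⟩ K` lies in `K` -/
theorem le_of_perfect (hK : K ≤ centralizer ({x} : Set G)) {L : Subgroup G} (hL : L ≤ zpowers x ⊔ K)
    (hp : ⁅L, L⁆ = L) : L ≤ K := by
  rw [← hp, commutator_le]
  intro g hg h hh
  obtain ⟨a, ha, k, hk, rfl⟩ := exists_of_mem_sup hK (hL hg)
  obtain ⟨b, hb, l, hl, rfl⟩ := exists_of_mem_sup hK (hL hh)
  have h1 := (commute_of_le hK b hb k hk).eq
  have h2 := (commute_of_le hK a ha l hl).eq
  have h3 := (commute_of_le hK a ha k hk).eq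
  have h4 := (commute_of_le hK b hb l hl).eq
  have hab : Commute a b := by
    obtain ⟨m, rfl⟩ := ha
    obtain ⟨n, rfl⟩ := hb
    exact (Commute.refl x).zpow_zpow m n
  have e : ⁅a * k, b * l⁆ = ⁅k, l⁆ := by
    have c1 : Commute a (k * (b * l) * k⁻¹) := by
      refine ((commute_of_le hK a ha k hk).mul_right (hab.mul_right ?_)).mul_right
        (commute_of_le hK a ha k⁻¹ (inv_mem hk))
      exact commute_of_le hK a ha l hl
    have c2 : Commute b (k * l * k⁻¹ * l⁻¹) :=
      (((commute_of_le hK b hb k hk).mul_right (commute_of_le hK b hb l hl)).mul_right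
        (commute_of_le hK b hb _ (inv_mem hk))).mul_right (commute_of_le hK b hb _ (inv_mem hl))
    have c3 : Commute b k := commute_of_le hK b hb k hk
    calc ⁅a * k, b * l⁆ = a * (k * (b * l) * k⁻¹) * a⁻¹ * (b * l)⁻¹ := by rw [commutatorElement_def]; group
      _ = (k * (b * l) * k⁻¹) * a * a⁻¹ * (b * l)⁻¹ := by rw [c1.eq]
      _ = (k * b) * l * k⁻¹ * l⁻¹ * b⁻¹ := by group
      _ = (b * k) * l * k⁻¹ * l⁻¹ * b⁻¹ := by rw [c3.eq]
      _ = b * (k * l * k⁻¹ * l⁻¹) * b⁻¹ := by group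
      _ = (k * l * k⁻¹ * l⁻¹) * b * b⁻¹ := by rw [c2.eq]
      _ = ⁅k, l⁆ := by rw [commutatorElement_def]; group
  rw [e, commutatorElement_def]
  exact mul_mem (mul_mem (mul_mem hk hl) (inv_mem hk)) (inv_mem hl)

/-- `K` perfect and `|C(x) : ⟨x⟩ K| ≤ 2`: `K` is normalised by `C(x)`. -/
theorem conj_mem_two (hK : K ≤ centralizer ({x} : Set G)) (hd : zpowers x ⊓ K = ⊥) (hperf : ⁅K, K⁆ = K)
    (hle : Nat.card (centralizer ({x} : Set G)) ≤ 2 * (orderOf x * Nat.card K)) :
    ∀ c ∈ centralizer ({x} : Set G), ∀ k ∈ K, c * k * c⁻¹ ∈ K := by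
  have h0 := card_sup hK hd
  have h1 := Subgroup.card_mul_index ((zpowers x ⊔ K).subgroupOf (centralizer ({x} : Set G)))
  rw [Nat.card_congr (subgroupOfEquivOfLe (sup_le hK)).toEquiv, h0] at h1
  have hpos : 0 < orderOf x * Nat.card K := Nat.mul_pos (orderOf_pos x) Nat.card_pos
  have h2 : ((zpowers x ⊔ K).subgroupOf (centralizer ({x} : Set G))).index ≤ 2 := by
    rw [← h1, mul_comm 2] at hle
    exact Nat.le_of_mul_le_mul_left hle hpos
  have hn : ((zpowers x ⊔ K).subgroupOf (centralizer ({x} : Set G))).Normal := by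
    have h3 : ((zpowers x ⊔ K).subgroupOf (centralizer ({x} : Set G))).index ≠ 0 := index_ne_zero_of_finite
    rcases (by omega : ((zpowers x ⊔ K).subgroupOf (centralizer ({x} : Set G))).index = 1 ∨
      ((zpowers x ⊔ K).subgroupOf (centralizer ({x} : Set G))).index = 2) with h | h
    · rw [index_eq_one] at h
      rw [h]
      infer_instance
    · exact normal_of_index_eq_two h
  intro c hc k hk
  have h4 : (K.map (MulAut.conj c).toMonoidHom) ≤ K := by
    refine le_of_perfect hK ?_ ?_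
    · rintro _ ⟨k, hk, rfl⟩
      have h5 := hn.conj_mem ⟨k, hK hk⟩ (mem_subgroupOf.2 (mem_sup_right hk)) ⟨c, hc⟩
      exact mem_subgroupOf.1 h5
    · rw [← map_commutator, hperf]
  exact h4 ⟨k, hk, rfl⟩

end norm

section row

variable {G : Type u} [Group G] [Finite G] {p : ℕ} [hp : Fact p.Prime] {x : G} {K : Subgroup G}

theorem inf_eq_bot_of_center (hK : K ≤ centralizer ({x} : Set G)) (hc : ∀ z ∈ K, (∀ k ∈ K, z * k = k * z) → z = 1) :
    zpowers x ⊓ K = ⊥ := by
  rw [eq_bot_iff]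
  intro z hz
  obtain ⟨h1, h2⟩ := mem_inf.1 hz
  exact mem_bot.2 (hc z h2 fun k hk => (commute_of_le hK z h1 k hk).eq)

theorem perfect_of_simple [hs : IsSimpleGroup K] (hna : ¬ IsMulCommutative K) : ⁅K, K⁆ = K := by
  have h1 : commutator K = ⊤ := by
    rcases hs.eq_bot_or_eq_top_of_normal (commutator K) inferInstance with h | h
    · exfalso
      apply hna
      rw [commutator_eq_bot_iff_center_eq_top] at h
      exact ⟨⟨fun a b => (mem_center_iff.1 (h ▸ mem_top b) a)⟩⟩
    · exact h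
  have h2 := congrArg (Subgroup.map K.subtype) h1
  rw [commutator_def, map_commutator, ← MonoidHom.range_eq_map, range_subtype] at h2
  exact h2

/-- **Row**: `C(x) = ⟨x⟩ × K`. -/
theorem vOrdP_one (hx : orderOf x = p) (hK : K ≤ centralizer ({x} : Set G)) (hd : zpowers x ⊓ K = ⊥)
    (hle : Nat.card (centralizer ({x} : Set G)) ≤ p * Nat.card K) (hdz : HasDZ p K)
    {n : ℕ} (hG : p ^ n ∣ Nat.card G) (hC : ¬ p ^ n ∣ Nat.card (centralizer ({x} : Set G))) : VOrdP p G := by
  refine vOrdP_of_noncentral hx hK (conj_mem_one hK hd (by rw [hx]; exact hle)) hdz ?_ hG hC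
  have h1 : Nat.card (centralizer ({x} : Set G)) = p * Nat.card K := by
    refine le_antisymm hle ?_
    rw [← hx, ← card_sup hK hd]
    exact card_le_of_le (sup_le hK)
  rw [h1, Nat.factorization_mul hp.out.ne_zero Nat.card_pos.ne', Finsupp.add_apply, hp.out.factorization_self]
  omega

/-- **Row**: `C(x) = (⟨x⟩ × K)` or `(⟨x⟩ × K).2`, `p` odd, `K` perfect. -/
theorem vOrdP_two (hp2 : p ≠ 2) (hx : orderOf x = p) (hK : K ≤ centralizer ({x} : Set G)) (hd : zpowers x ⊓ K = ⊥)
    (hperf : ⁅K, K⁆ = K)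
    (hle : Nat.card (centralizer ({x} : Set G)) ≤ 2 * (p * Nat.card K)) (hdz : HasDZ p K)
    {n : ℕ} (hG : p ^ n ∣ Nat.card G) (hC : ¬ p ^ n ∣ Nat.card (centralizer ({x} : Set G))) : VOrdP p G := by
  refine vOrdP_of_noncentral hx hK (conj_mem_two hK hd hperf (by rw [hx]; exact hle)) hdz ?_ hG hC
  obtain ⟨k, hk⟩ : p * Nat.card K ∣ Nat.card (centralizer ({x} : Set G)) := by
    rw [← hx, ← card_sup hK hd]
    exact card_dvd_of_le (sup_le hK)
  have hpos : 0 < p * Nat.card K := Nat.mul_pos hp.out.pos Nat.card_pos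
  have hk2 : k ≤ 2 := by
    rw [hk, mul_comm 2] at hle
    exact Nat.le_of_mul_le_mul_left hle hpos
  have hk0 : k ≠ 0 := by
    rintro rfl
    rw [mul_zero] at hk
    exact Nat.card_pos.ne' hk
  have hkp : ¬ p ∣ k := fun h => by
    have h1 := Nat.le_of_dvd (by omega) h
    have h2 := hp.out.two_le
    exact hp2 (by omega)
  rw [hk, Nat.factorization_mul hpos.ne' hk0, Nat.factorization_mul hp.out.ne_zero Nat.card_pos.ne', Finsupp.add_apply,
    Finsupp.add_apply, hp.out.factorization_self, Nat.factorization_eq_zero_of_not_dvd hkp]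
  omega

end row

end Cfsg.Agent.H678.PV
end

-- part: H678/PV/Pair
section
set_option linter.all false
open scoped Cfsg.Agent.FastGrp

/-!
# Rows of S4555 / S4559: centralisers with Sylow subgroups of order `p ^ 2` (helper678)

* `vOrdP_of_im` : `x` of order `p`, `p ^ 3 ∤ |C(x)|`, a character of `C(x)` of degree divisible by `p`, `p ^ 3 ∣ |G|`;
* `vOrdP_of_im'` : the same with an element `y` of order `p` with `|C(y)| ≠ |C(x)|`;
* `vOrdP_of_pair` : `x`, `y` commute, `C(x) ∩ C(y)` a `p`-group, `|C(x)| = p ^ 2 m`.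
-/

set_option autoImplicit false
set_option linter.unusedSectionVars false

namespace Cfsg.Agent.H678.PV

open Cfsg
open Cfsg.Agent.Characters.Core Cfsg.Agent.Blocks.Basic Cfsg.Agent.Blocks.Local
open Cfsg.Agent.H713 Cfsg.Agent.H713.Count Cfsg.Agent.H33 Cfsg.Agent.H665.NoPQ
open Cfsg.Agent.H492.IMTools Cfsg.Agent.H620.PNorm

universe u v

variable {G : Type u} [Group G] {p : ℕ} [hp : Fact p.Prime]

/-- A block with the defect group `⟨x⟩` from a character of `C(x)` of degree divisible by `p`. -/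
theorem exists_block_im [Finite G] {M : Ideal AlgInt} (hM : IsPModular p M) {x : G} (hx : orderOf x = p)
    (h3 : ¬ p ^ 3 ∣ Nat.card (Subgroup.centralizer ({x} : Set G))) (him : IM p (Subgroup.centralizer ({x} : Set G))) :
    ∃ B : Set (IrrCharacter G), IsPBlock M B ∧ IsDefectGroup p M B (Subgroup.zpowers x) := by
  obtain ⟨θ, hθ⟩ := him
  refine exists_block_one hM hx θ ?_
  have h1 := (hp.out.dvd_iff_one_le_factorization (charDegree_pos θ.2).ne').1 hθ
  have h2 : ¬ 3 ≤ (Nat.card (Subgroup.centralizer ({x} : Set G))).factorization p := fun h =>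
    h3 ((hp.out.pow_dvd_iff_le_factorization Nat.card_pos.ne').2 h)
  omega

theorem vOrdP_of_im' [Finite G] {x y : G} (hx : orderOf x = p)
    (h3 : ¬ p ^ 3 ∣ Nat.card (Subgroup.centralizer ({x} : Set G))) (him : IM p (Subgroup.centralizer ({x} : Set G)))
    (hy : orderOf y = p)
    (hne : Nat.card (Subgroup.centralizer ({y} : Set G)) ≠ Nat.card (Subgroup.centralizer ({x} : Set G))) :
    VOrdP p G := by
  obtain ⟨M, hM⟩ := Cfsg.Agent.Blocks.Knorr.exists_isPModular p
  obtain ⟨B, hB, hQ⟩ := exists_block_im hM hx h3 him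
  refine ⟨y, hy, vz_of_card_ne hM hB hQ ⟨1, by rw [hy, pow_one]⟩ fun z hz hzo => ?_⟩
  rw [card_centralizer_zpowers hx hz (hzo.trans hy)]
  exact hne.symm

theorem vOrdP_of_im [Finite G] {x : G} (hx : orderOf x = p)
    (h3 : ¬ p ^ 3 ∣ Nat.card (Subgroup.centralizer ({x} : Set G))) (him : IM p (Subgroup.centralizer ({x} : Set G)))
    (hG3 : p ^ 3 ∣ Nat.card G) : VOrdP p G := by
  obtain ⟨y, hy, hy2⟩ := exists_central_elt (p := p) (n := 3) (hx ▸ orderOf_dvd_natCard x) hG3
  exact vOrdP_of_im' hx h3 him hy fun h => h3 (h ▸ hy2)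

/-- **Rows with two commuting elements of order `p`.** -/
theorem vOrdP_of_pair [Finite G] {x y : G} (hx : orderOf x = p) (hy : orderOf y = p)
    (hcomm : y * x = x * y) (hyx : y ∉ Subgroup.zpowers x)
    (hxy : ∀ q : ℕ, q.Prime → q ≠ p →
      ¬ q ∣ Nat.card ↥(Subgroup.centralizer ({x} : Set G) ⊓ Subgroup.centralizer ({y} : Set G)))
    {m : ℕ} (hC : Nat.card (Subgroup.centralizer ({x} : Set G)) = p ^ 2 * m) (hpm : ¬ p ∣ m)
    (s : Finset ℕ) (hs : ∀ n ∈ s, ¬ p ∣ n ∧ ∃ g : G, g * x = x * g ∧ orderOf g = n)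
    (hcard : m % p ∣ p - 1 → m % p < s.card) (hG3 : p ^ 3 ∣ Nat.card G) : VOrdP p G := by
  classical
  set C := Subgroup.centralizer ({x} : Set G) with hCdef
  set z : C := ⟨x, Subgroup.mem_centralizer_singleton_iff.2 rfl⟩ with hz
  set y' : C := ⟨y, Subgroup.mem_centralizer_singleton_iff.2 hcomm⟩ with hy'
  have hzo : orderOf z = p := by rw [hz, Subgroup.orderOf_mk, hx]
  have hyo : orderOf y' = p := by rw [hy', Subgroup.orderOf_mk, hy]
  have hzc : ∀ c : C, c * z = z * c := fun c =>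
    Subtype.ext (Subgroup.mem_centralizer_singleton_iff.1 c.2)
  have hnorm : (Subgroup.zpowers z).Normal := by
    refine ⟨fun n hn g => ?_⟩
    obtain ⟨k, rfl⟩ := hn
    have : g * z ^ k * g⁻¹ = z ^ k := by
      rw [((show Commute g z from hzc g).zpow_right k).eq, mul_inv_cancel_right]
    show g * z ^ k * g⁻¹ ∈ _
    rw [this]
    exact ⟨k, rfl⟩
  have hm : m ≠ 0 := by rintro rfl; exact hpm (dvd_zero _)
  -- the quotient
  have hH : Nat.card (C ⧸ Subgroup.zpowers z) = p * m := by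
    have h1 := Subgroup.card_eq_card_quotient_mul_card_subgroup (Subgroup.zpowers z)
    rw [hC, Nat.card_zpowers, hzo] at h1
    have h2 : p * (p * m) = p * Nat.card (C ⧸ Subgroup.zpowers z) := by
      rw [mul_comm p (Nat.card _), ← h1]; ring
    exact (Nat.eq_of_mul_eq_mul_left hp.out.pos h2).symm
  have hHf : (Nat.card (C ⧸ Subgroup.zpowers z)).factorization p = 1 := by
    rw [hH, Nat.factorization_mul hp.out.ne_zero hm, Finsupp.add_apply,
      hp.out.factorization_self, Nat.factorization_eq_zero_of_not_dvd hpm]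
  have hyb : orderOf (QuotientGroup.mk y' : C ⧸ Subgroup.zpowers z) = p := by
    apply orderOf_eq_prime
    · have : (QuotientGroup.mk y' : C ⧸ Subgroup.zpowers z) ^ p = QuotientGroup.mk (y' ^ p) := rfl
      rw [this, ← hyo, pow_orderOf_eq_one]
      rfl
    · intro h
      rw [QuotientGroup.eq_one_iff] at h
      obtain ⟨k, hk⟩ := h
      apply hyx
      refine ⟨k, ?_⟩
      have := congrArg Subtype.val hk
      exact this
  have hq : ∀ q : ℕ, q.Prime → q ≠ p → ¬ q ∣ Nat.card (Subgroup.centralizer ({y'} : Set C)) := by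
    intro q hq hne hd
    refine hxy q hq hne (hd.trans (dvd_of_eq ?_))
    apply Nat.card_congr
    refine
      { toFun := fun c => ⟨c.1.1, c.1.2, ?_⟩
        invFun := fun c => ⟨⟨c.1, c.2.1⟩, ?_⟩
        left_inv := fun _ => rfl
        right_inv := fun _ => rfl }
    · have h1 := Subgroup.mem_centralizer_singleton_iff.1 c.2
      exact Subgroup.mem_centralizer_singleton_iff.2 (congrArg Subtype.val h1)
    · rw [Subgroup.mem_centralizer_singleton_iff]
      exact Subtype.ext (Subgroup.mem_centralizer_singleton_iff.1 c.2.2)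
  have hpg := isPGroup_centralizer_mk (p := p) (by rw [← hzo]; exact pow_orderOf_eq_one z) hzc hq
  have hcb : Nat.card (Subgroup.centralizer
      ({(QuotientGroup.mk y' : C ⧸ Subgroup.zpowers z)} : Set (C ⧸ Subgroup.zpowers z))) = p := by
    obtain ⟨k, hk⟩ := IsPGroup.iff_card.1 hpg
    have h1 : p ∣ p ^ k := by
      rw [← hk, ← hyb, ← Subgroup.orderOf_mk _ (Subgroup.mem_centralizer_singleton_iff.2 rfl)]
      exact orderOf_dvd_natCard _
    have h2 : p ^ k ∣ p * m := by rw [← hk, ← hH]; exact Subgroup.card_subgroup_dvd_card _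
    have h3 : k = 1 := by
      rcases Nat.lt_trichotomy k 1 with h | h | h
      · have : k = 0 := by omega
        rw [this, pow_zero] at h1
        exact absurd (Nat.le_of_dvd one_pos h1) (by have := hp.out.one_lt; omega)
      · exact h
      · exfalso
        apply hpm
        have h4 : p ^ 2 ∣ p * m := (pow_dvd_pow p h).trans h2
        rw [pow_two] at h4
        exact Nat.dvd_of_mul_dvd_mul_left hp.out.pos h4
    rw [hk, h3, pow_one]
  have hdiv : Nat.card (C ⧸ Subgroup.zpowers z) / p = m := by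
    rw [hH, Nat.mul_div_cancel_left _ hp.out.pos]
  have hlt : m % p < s.card := by
    apply hcard
    have h1 := card_fus_eq hHf hyb (c := 1) (by rw [hcb, mul_one]) (e := m % p) (by
      intro k hk h
      rw [mul_one, hdiv, Nat.mod_eq_of_lt hk] at h
      exact h)
    exact Dvd.intro _ h1.2
  refine vOrdP_of_hom hx (QuotientGroup.mk' (Subgroup.zpowers z))
    (QuotientGroup.mk'_surjective _) ?_ (hasDZ_of_orders hHf hyb hcb s ?_ (by rw [hdiv]; exact hlt)) (n := 3) hG3 ?_
  · rw [QuotientGroup.ker_mk', Nat.card_zpowers, hzo, hp.out.factorization_self]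
  · intro n hn
    obtain ⟨h1, g, hg, hgn⟩ := hs n hn
    refine ⟨h1, QuotientGroup.mk ⟨g, Subgroup.mem_centralizer_singleton_iff.2 hg⟩, ?_⟩
    set g' : C := ⟨g, Subgroup.mem_centralizer_singleton_iff.2 hg⟩ with hg'
    have hgo : orderOf g' = n := by rw [hg', Subgroup.orderOf_mk, hgn]
    have h2 : orderOf (QuotientGroup.mk g' : C ⧸ Subgroup.zpowers z) ∣ n := by
      rw [← hgo]
      exact orderOf_map_dvd (QuotientGroup.mk' (Subgroup.zpowers z)) g'
    apply Nat.dvd_antisymm h2
    set o := orderOf (QuotientGroup.mk g' : C ⧸ Subgroup.zpowers z) with ho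
    have h3 : g' ^ o ∈ Subgroup.zpowers z := by
      rw [← QuotientGroup.eq_one_iff]
      have : (QuotientGroup.mk (g' ^ o) : C ⧸ Subgroup.zpowers z) =
        (QuotientGroup.mk g' : C ⧸ Subgroup.zpowers z) ^ o := rfl
      rw [this, ho, pow_orderOf_eq_one]
    have h4 : (g' ^ o) ^ p = 1 := by
      obtain ⟨k, hk⟩ := h3
      rw [← hk]
      show (z ^ k) ^ p = 1
      rw [← zpow_natCast, ← zpow_mul, mul_comm, zpow_mul, zpow_natCast, ← hzo, pow_orderOf_eq_one,
        one_zpow]
    rw [← pow_mul] at h4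
    have h5 := orderOf_dvd_of_pow_eq_one h4
    rw [hgo] at h5
    have hcop : Nat.Coprime n p := by
      rw [Nat.coprime_comm, Nat.Prime.coprime_iff_not_dvd hp.out]; exact h1
    exact hcop.dvd_of_dvd_mul_right h5
  · rw [← hCdef, hC, show 3 = 2 + 1 from rfl, pow_succ]
    intro h
    exact hpm (Nat.dvd_of_mul_dvd_mul_left (pow_pos hp.out.pos 2) h)

end Cfsg.Agent.H678.PV
end
end
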