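import Cfsg.Agent.H678.PV.Alt
import Cfsg.Agent.H961.SevX
import Cfsg.Agent.H820.SevenL32
import Cfsg.Agent.S0399
import Cfsg.Agent.H614.Chars
import Cfsg.Agent.H614.IndexTwo
import Cfsg.Agent.H714.AltMore
import Cfsg.Agent.H620.PNorm
import Cfsg.Agent.Prune
set_option linter.all false

section
prune_inst 0x7f00000000000000000000000000000000000000000000000000000000000000000000000000000000000000000000000000000000000000000000000000000000000000000000000000000000000000003fffffffffffffffffffffffffffbeffbdffffffff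

-- part: H678/PV/RowCoOneB
section
set_option linter.all false
open scoped Cfsg.Agent.FastGrp

/-!
# `Co1`, `p = 7` (helper678)

An element of order 7 with the centraliser `7 × A₇`, another one with the centraliser `7 × L₃(2)`.
-/

set_option autoImplicit false

namespace Cfsg.Agent.H678.PV

open Cfsg Subgroup
open Cfsg.Agent.H665.NoPQ Cfsg.Agent.H713 Cfsg.Agent.H620.PNorm

universe u

namespace CoSeven

open Cfsg.Agent.CpAutMSeven.RanksH (s0 orderOf_s0)

theorem card_s0 : Nat.card ↥(centralizer ({s0} : Set Spor.Co1)) = 1176 := by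
  have hq := Subgroup.card_eq_card_quotient_mul_card_subgroup (LThreeMB.Zx s0)
  have h1 : Nat.card (↥(centralizer ({s0} : Set Spor.Co1)) ⧸ LThreeMB.Zx s0) = 168 := H820.SevenL32.card_XX
  have h2 : Nat.card ↥(LThreeMB.Zx s0) = 7 := by
    rw [LThreeMB.Zx, Nat.card_zpowers, ← orderOf_s0]
    exact Subgroup.orderOf_mk _ _
  rw [hq, h1, h2]

theorem main : VOrdP 7 Spor.Co1 := by
  have hp : Fact (Nat.Prime 7) := ⟨by norm_num⟩
  have hc := Cfsg.Agent.S0399.result.2
  have : Finite Spor.Co1 := Nat.finite_of_card_ne_zero (by rw [hc]; norm_num)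
  obtain ⟨V, hV, ⟨e⟩⟩ := H813.CoSevenMain.cent_seven
  obtain ⟨v, hv⟩ := exists_prime_orderOf_dvd_card' (G := V) 7 (by rw [hV])
  obtain ⟨x, hx⟩ : ∃ x : Spor.Co1, x = (v : Spor.Co1) := ⟨_, rfl⟩
  have hxo : orderOf x = 7 := by rw [hx, Subgroup.orderOf_coe, hv]
  have hxV : zpowers x = V := by
    refine Subgroup.eq_of_le_of_card_ge (by rw [zpowers_le, hx]; exact v.2) ?_
    rw [Nat.card_zpowers, hxo, hV]
  have hcx : centralizer (V : Set Spor.Co1) = centralizer ({x} : Set Spor.Co1) := by
    rw [← hxV, H870.IMLocal.centralizer_zpowers]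
  rw [hcx] at e
  have hC : Nat.card (centralizer ({x} : Set Spor.Co1)) = 17640 := by
    rw [Nat.card_congr e.toEquiv, Nat.card_prod, card_alt 7 (by norm_num), Nat.card_congr Multiplicative.toAdd,
      Nat.card_zmod]
    rfl
  refine vOrdP_of_im' (x := x) (y := s0) hxo ?_ ?_ orderOf_s0 ?_
  · rw [hC]; norm_num
  · exact (im_alt 7 (by norm_num) (p := 7) (by norm_num) (by decide)).of_surjective
      ((MonoidHom.snd _ _).comp e.toMonoidHom) (Prod.snd_surjective.comp e.surjective)
  · rw [hC, card_s0]; norm_num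

end CoSeven

/-- **`Co1`, `p = 7`.** -/
theorem co1_7 {K : Type u} [Group K] (h : Spor.IsoCo1 K) : VOrdP 7 K := by
  obtain ⟨e⟩ := h
  exact CoSeven.main.mulEquiv e.symm

end Cfsg.Agent.H678.PV
end

-- part: H620/PNAlt
section
set_option linter.all false
open scoped Cfsg.Agent.FastGrp

/-!
# S4555 and S4559: the alternating groups (helper620)

The hook characters `(n - f, 1 ^ f)` vanish at the elements with `c` cycles of length `q` for
`n = c q + f`, `1 ≤ f < q` (Murnaghan-Nakayama, `H614`).
-/

set_option autoImplicit false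

namespace Cfsg.Agent.H620.PNAlt

open Finset Cfsg Cfsg.Agent.H614 Equiv Equiv.Perm Cfsg.Agent.H713 Cfsg.Agent.H620.PNorm

/-! ### Hook tuples -/

/-- The tuple `(1, 2, ..., f, a)` of a hook. -/
def bt (f a : ℕ) : Fin (f + 1) → ℕ := fun i => if (i : ℕ) = f then a else i + 1

theorem bt_last (f a : ℕ) : bt f a (Fin.last f) = a := by simp [bt]

theorem bt_castSucc (f a : ℕ) (i : Fin f) : bt f a i.castSucc = i + 1 := by
  have h := i.2
  have h1 : (i : ℕ) ≠ f := by omega
  simp [bt, h1]

theorem strictMono_bt {f a : ℕ} (h : f < a) : StrictMono (bt f a) := by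
  intro i j hij
  have hi := i.2
  have hj := j.2
  rw [Fin.lt_def] at hij
  unfold bt
  split_ifs <;> omega

theorem sum_bt (f a : ℕ) : ∑ i, bt f a i = a + ∑ i : Fin (f + 1), (i : ℕ) := by
  rw [Fin.sum_univ_castSucc, Fin.sum_univ_castSucc (fun i : Fin (f + 1) => (i : ℕ))]
  simp only [bt_last, bt_castSucc, Finset.sum_add_distrib, Fin.val_castSucc, Fin.val_last]
  simp
  ring

theorem dn_bt (f a r : ℕ) : dn (bt f a) (Fin.last f) r = bt f (a - r) := by
  funext i
  by_cases h : i = Fin.last f
  · subst h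
    rw [dn_self, bt_last, bt_last]
  · rw [dn_ne _ _ h]
    have h1 : (i : ℕ) ≠ f := fun h2 => h (Fin.ext h2)
    simp [bt, h1]

theorem FM_bt_cons {f a r : ℕ} (hr : f < r) (hra : r ≤ a) (s : Multiset ℕ) :
    FM (r ::ₘ s) (bt f a) = FM s (bt f (a - r)) := by
  rw [FM_cons, Finset.sum_eq_single (Fin.last f)]
  · rw [bt_last, if_pos hra, dn_bt]
  · intro j _ hj
    rw [if_neg]
    have h1 : (j : ℕ) ≠ f := fun h2 => hj (Fin.ext h2)
    have := j.2
    simp only [bt, if_neg h1]
    omega
  · intro h
    exact absurd (Finset.mem_univ _) h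

theorem FM_bt_replicate {f r : ℕ} (hr : f < r) (c : ℕ) {a : ℕ} (ha : c * r ≤ a) (s : Multiset ℕ) :
    FM (Multiset.replicate c r + s) (bt f a) = FM s (bt f (a - c * r)) := by
  induction c generalizing a with
  | zero => simp
  | succ c ih =>
    rw [Multiset.replicate_succ, Multiset.cons_add, FM_bt_cons hr (by nlinarith), ih (by
      rw [Nat.succ_mul] at ha; omega)]
    congr 2
    rw [Nat.succ_mul]; omega

theorem FM_bt_eq_zero {f : ℕ} (hf : 1 ≤ f) (s : Multiset ℕ) : FM s (bt f f) = 0 := by
  refine (FM_alt s).eq_zero_of_not_injective two_torsion_int ?_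
  rw [Function.not_injective_iff]
  refine ⟨⟨f - 1, by omega⟩, Fin.last f, ?_, ?_⟩
  · rw [bt_last]
    have h1 : f - 1 ≠ f := by omega
    simp only [bt, if_neg h1]
    omega
  · intro h
    have := congrArg Fin.val h
    simp at this
    omega

theorem vac_bt_ne (f : ℕ) : vac (bt f 0) ≠ 0 := by
  unfold vac
  have hb : bt f 0 = fun i => ((finRotate (f + 1) i : Fin (f + 1)) : ℕ) := by
    funext i
    by_cases h : i = Fin.last f
    · subst h
      rw [bt_last, finRotate_last]
      rfl
    · have h1 : (i : ℕ) ≠ f := fun h2 => h (Fin.ext h2)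
      have h2 := i.2
      rw [finRotate_of_lt (by omega)]
      simp [bt, h1]
  rw [Finset.sum_eq_single (finRotate (f + 1))]
  · rw [if_pos hb]
    simp [sg]
  · intro σ _ hσ
    rw [if_neg]
    intro h
    apply hσ
    ext i
    rw [hb] at h
    exact (congrFun h i).symm
  · intro h
    exact absurd (Finset.mem_univ _) h

/-! ### The hook characters of the alternating groups -/

theorem ty_of_cycleType {n : ℕ} {g : Perm (Fin n)} {m : Multiset ℕ} (h : g.cycleType = m) :
    ty g = m + Multiset.replicate (n - m.sum) 1 := by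
  rw [ty_eq, h, Fintype.card_fin]

theorem isIrr_hook {n f : ℕ} (hf : f < n) : IsIrrCharacter (Perm (Fin n)) (ch (Fin n) (bt f n)) :=
  isIrr_ch (strictMono_bt hf) (by rw [sum_bt, Fintype.card_fin])

/-- An odd element which is not a zero of the hook character. -/
theorem exists_odd {n f : ℕ} (hf : 1 ≤ f) (hn : 2 * f + 2 < n) :
    ∃ g : Perm (Fin n), g ∉ alternatingGroup (Fin n) ∧ ch (Fin n) (bt f n) g ≠ 0 := by
  rcases Nat.even_or_odd n with he | ho
  · -- an `n`-cycle
    obtain ⟨g, hg⟩ := (exists_with_cycleType_iff (α := Fin n) (m := {n})).2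
      ⟨by simp, by simp; omega⟩
    refine ⟨g, ?_, ?_⟩
    · rw [mem_alternatingGroup, sign_of_cycleType, hg]
      simp only [Multiset.sum_singleton, Multiset.card_singleton]
      have : Odd (n + 1) := he.add_one
      rw [this.neg_one_pow]
      decide
    · rw [ch_apply, ty_of_cycleType hg]
      simp only [Multiset.sum_singleton, Nat.sub_self, Multiset.replicate_zero, add_zero]
      rw [← Multiset.cons_zero, FM_bt_cons (by omega) le_rfl, Nat.sub_self, FM_zero]
      exact_mod_cast vac_bt_ne f
  · -- type `(a, b)` with `b` odd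
    obtain ⟨b, hb, hbf, hb2⟩ : ∃ b, Odd b ∧ f < b ∧ b ≤ f + 2 := by
      rcases Nat.even_or_odd f with h | h
      · exact ⟨f + 1, h.add_one, by omega, by omega⟩
      · exact ⟨f + 2, by rw [Nat.odd_add]; simp [h], by omega, le_rfl⟩
    obtain ⟨a, rfl⟩ : ∃ a, n = a + b := ⟨n - b, by omega⟩
    have ha : Even a := by
      rw [Nat.odd_add'] at ho
      exact ho.1 hb
    obtain ⟨g, hg⟩ := (exists_with_cycleType_iff (α := Fin (a + b)) (m := {a, b})).2
      ⟨by simp, by
        intro x hx
        simp at hx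
        omega⟩
    refine ⟨g, ?_, ?_⟩
    · rw [mem_alternatingGroup, sign_of_cycleType, hg]
      have h1 : (({a, b} : Multiset ℕ).sum + Multiset.card ({a, b} : Multiset ℕ)) = a + b + 2 := by
        simp
      rw [h1]
      have : Odd (a + b + 2) := by
        rw [Nat.odd_add]
        simp [ho]
      rw [this.neg_one_pow]
      decide
    · rw [ch_apply, ty_of_cycleType hg]
      have h1 : ({a, b} : Multiset ℕ).sum = a + b := by simp
      rw [h1, Nat.sub_self, Multiset.replicate_zero, add_zero, Multiset.insert_eq_cons,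
        FM_bt_cons (by omega) (by omega), Nat.add_sub_cancel_left, ← Multiset.cons_zero,
        FM_bt_cons hbf le_rfl, Nat.sub_self, FM_zero]
      exact_mod_cast vac_bt_ne f

/-- The restriction of the hook character to the alternating group is irreducible. -/
theorem isIrr_hook_alt {n f : ℕ} (hf : 1 ≤ f) (hn : 2 * f + 2 < n) :
    IsIrrCharacter (alternatingGroup (Fin n)) (fun x => ch (Fin n) (bt f n) (x : Perm (Fin n))) := by
  classical
  have : Nontrivial (Fin n) := Fin.nontrivial_iff_two_le.2 (by omega)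
  have hidx : (alternatingGroup (Fin n)).index = 2 := alternatingGroup.index_eq_two
  have hχ := isIrr_hook (n := n) (f := f) (by omega)
  have hres : IsCharacter (alternatingGroup (Fin n)) (fun x => ch (Fin n) (bt f n) (x : Perm (Fin n))) :=
    Characters.Clifford.isCharacter_restrict (alternatingGroup (Fin n)) (Characters.Core.isIrr_isCharacter hχ)
  rcases CharactersDeep.PrimeIndex.norm_restrict_prime_index (alternatingGroup (Fin n)) Nat.prime_two hidx hχ with
    h1 | h1
  · exact Characters.Core.isIrr_of_classInner_self hres h1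
  · exfalso
    obtain ⟨g, hg, hg0⟩ := exists_odd hf hn
    exact hg0 (eq_zero_of_norm_two (alternatingGroup (Fin n)) hidx hχ (by rw [h1]; rfl) hg)

/-- Zeros of the hook characters. -/
theorem vz_hook {n f q c : ℕ} (hn7 : 7 ≤ n) (hf : 1 ≤ f) (hn : 2 * f + 2 < n) (hfq : f < q)
    (hnc : n = c * q + f) {m : Multiset ℕ}
    (x : alternatingGroup (Fin n))
    (hx : (x : Perm (Fin n)).cycleType = Multiset.replicate c q + m) :
    VZ ↥(alternatingGroup (Fin n)) x := by
  refine ⟨⟨_, isIrr_hook_alt hf hn⟩, fun α => ?_⟩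
  show ch (Fin n) (bt f n) ((α x : alternatingGroup (Fin n)) : Perm (Fin n)) = 0
  have h1 : ((α x : alternatingGroup (Fin n)) : Perm (Fin n)).cycleType = Multiset.replicate c q + m := by
    rw [Cfsg.Agent.H714.AltRow.cycleType_aut hn7, hx]
  rw [ch_apply, ty_of_cycleType h1, add_assoc, FM_bt_replicate hfq c (by omega),
    show n - c * q = f by omega, FM_bt_eq_zero hf, Int.cast_zero]

/-- An element of the alternating group of given type. -/
theorem exists_type {n : ℕ} (m : Multiset ℕ) (hm : m.sum ≤ n) (h2 : ∀ a ∈ m, 2 ≤ a)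
    (he : Even (m.sum + Multiset.card m)) :
    ∃ x : ↥(alternatingGroup (Fin n)), (x : Perm (Fin n)).cycleType = m ∧ orderOf x = m.lcm := by
  obtain ⟨x, hx⟩ := (exists_with_cycleType_iff (α := Fin n) (m := m)).2 ⟨by rw [Fintype.card_fin]; omega, h2⟩
  have hxs : x ∈ alternatingGroup (Fin n) := by
    rw [mem_alternatingGroup, sign_of_cycleType, hx, he.neg_one_pow]
  exact ⟨⟨x, hxs⟩, hx, by rw [Subgroup.orderOf_mk, ← lcm_cycleType, hx]⟩

theorem lcm_replicate {c q : ℕ} (hc : c ≠ 0) : (Multiset.replicate c q).lcm = q := by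
  apply Nat.dvd_antisymm
  · rw [Multiset.lcm_dvd]
    intro b hb
    rw [Multiset.eq_of_mem_replicate hb]
  · exact Multiset.dvd_lcm (Multiset.mem_replicate.2 ⟨hc, rfl⟩)

/-- **`VOrdP` for the alternating groups of degree at least seven.** -/
theorem vOrdP_alt {n p : ℕ} (hn : 7 ≤ n) (hp : p.Prime) (hp2 : p ≠ 2) (hpn : 2 * p ≤ n) :
    VOrdP p (alternatingGroup (Fin n)) := by
  have h2 := hp.two_le
  obtain ⟨k, hk⟩ := hp.odd_of_ne_two hp2
  have hdiv := Nat.div_add_mod n p
  have hmod := Nat.mod_lt n hp.pos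
  have hc : 2 ≤ n / p := by rw [Nat.le_div_iff_mul_le hp.pos]; exact hpn
  have hpar : ∀ c : ℕ, Even (c * p + c) := by
    intro c
    exact ⟨c * (k + 1), by rw [hk]; ring⟩
  rcases Nat.eq_zero_or_pos (n % p) with h0 | h1
  · obtain ⟨x, hx, hxo, -⟩ := Cfsg.Agent.H714.AltMore.exists_vz_type hn (Multiset.replicate (n / p) p)
      (Or.inr ⟨by rw [Multiset.sum_replicate, smul_eq_mul, mul_comm]; omega, fun h => hp2 (Multiset.eq_of_mem_replicate h).symm⟩)
      (fun a ha => by rw [Multiset.eq_of_mem_replicate ha]; exact h2)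
      (by rw [Multiset.sum_replicate, Multiset.card_replicate, smul_eq_mul]; exact hpar _)
    exact ⟨x, by rw [hxo, lcm_replicate (by omega)], hx⟩
  · have hnc : n = n / p * p + n % p := by rw [mul_comm]; exact hdiv.symm
    obtain ⟨x, hx, hxo⟩ := exists_type (n := n) (Multiset.replicate (n / p) p)
      (by rw [Multiset.sum_replicate, smul_eq_mul]; omega)
      (fun a ha => by rw [Multiset.eq_of_mem_replicate ha]; exact h2)
      (by rw [Multiset.sum_replicate, Multiset.card_replicate, smul_eq_mul]; exact hpar _)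
    have hbig : 2 * (n % p) + 2 < n := by
      have h3 : 2 * p ≤ n / p * p := Nat.mul_le_mul_right p hc
      omega
    refine ⟨x, by rw [hxo, lcm_replicate (by omega)], ?_⟩
    exact vz_hook hn h1 hbig hmod hnc (m := 0) x (by rw [add_zero]; exact hx)

/-- **`VPow 2` for the alternating groups of degree at least seven.** -/
theorem vPow_two_alt {n : ℕ} (hn : 7 ≤ n) : VPow 2 (alternatingGroup (Fin n)) := by
  have hpow : ∀ {d : ℕ}, d ∣ 8 → ∃ j : ℕ, d = 2 ^ j := by
    intro d hd
    obtain ⟨j, -, hj⟩ := (Nat.dvd_prime_pow Nat.prime_two).1 (show d ∣ 2 ^ 3 from hd)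
    exact ⟨j, hj⟩
  have key : ∀ m : Multiset ℕ, (m.sum = n - 1 ∨ m.sum = n ∧ 2 ∉ m) → (∀ a ∈ m, a = 2 ∨ a = 4 ∨ a = 8) →
      Even (m.sum + Multiset.card m) → VPow 2 (alternatingGroup (Fin n)) := by
    intro m hm h hev
    obtain ⟨x, hx, hxo, -⟩ := Cfsg.Agent.H714.AltMore.exists_vz_type hn m hm
      (fun a ha => by rcases h a ha with rfl | rfl | rfl <;> norm_num) hev
    refine ⟨x, ?_, hx⟩
    rw [hxo]
    apply hpow
    rw [Multiset.lcm_dvd]
    intro b hb
    rcases h b hb with rfl | rfl | rfl <;> decide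
  obtain ⟨k, hk⟩ : ∃ k, n = 4 * k ∨ n = 4 * k + 1 ∨ n = 4 * k + 2 ∨ n = 4 * k + 3 := ⟨n / 4, by omega⟩
  rcases hk with hk | hk | hk | hk
  · -- `n = 4 k`
    rcases Nat.even_or_odd k with ⟨l, hl⟩ | ⟨l, hl⟩
    · refine key (Multiset.replicate k 4) (Or.inr ⟨?_, ?_⟩) ?_ ?_
      · rw [Multiset.sum_replicate, smul_eq_mul]; omega
      · intro h
        have := Multiset.eq_of_mem_replicate h
        omega
      · intro a ha
        exact Or.inr (Or.inl (Multiset.eq_of_mem_replicate ha))
      · rw [Multiset.sum_replicate, Multiset.card_replicate, smul_eq_mul]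
        exact ⟨5 * l, by omega⟩
    · refine key (8 ::ₘ Multiset.replicate (k - 2) 4) (Or.inr ⟨?_, ?_⟩) ?_ ?_
      · rw [Multiset.sum_cons, Multiset.sum_replicate, smul_eq_mul]; omega
      · intro h
        rw [Multiset.mem_cons] at h
        rcases h with h | h
        · omega
        · have := Multiset.eq_of_mem_replicate h
          omega
      · intro a ha
        rw [Multiset.mem_cons] at ha
        rcases ha with h | h
        · exact Or.inr (Or.inr h)
        · exact Or.inr (Or.inl (Multiset.eq_of_mem_replicate h))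
      · rw [Multiset.sum_cons, Multiset.card_cons, Multiset.sum_replicate, Multiset.card_replicate, smul_eq_mul]
        exact ⟨5 * l + 2, by omega⟩
  · -- `n = 4 k + 1`
    refine key (Multiset.replicate (2 * k) 2) (Or.inl ?_) ?_ ?_
    · rw [Multiset.sum_replicate, smul_eq_mul]; omega
    · intro a ha
      exact Or.inl (Multiset.eq_of_mem_replicate ha)
    · rw [Multiset.sum_replicate, Multiset.card_replicate, smul_eq_mul]
      exact ⟨3 * k, by omega⟩
  · -- `n = 4 k + 2`
    have hz : ∀ x : ↥(alternatingGroup (Fin n)), (∃ j : ℕ, orderOf x = 2 ^ j) →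
        (∃ m : Multiset ℕ, (x : Perm (Fin n)).cycleType = Multiset.replicate k 4 + m) →
        VPow 2 (alternatingGroup (Fin n)) := by
      rintro x hxo ⟨m, hx⟩
      exact ⟨x, hxo, vz_hook hn (f := 2) (q := 4) (c := k) (by norm_num) (by omega) (by norm_num) (by omega) x hx⟩
    rcases Nat.even_or_odd k with ⟨l, hl⟩ | ⟨l, hl⟩
    · obtain ⟨x, hx, hxo⟩ := exists_type (n := n) (Multiset.replicate k 4)
        (by rw [Multiset.sum_replicate, smul_eq_mul]; omega)
        (fun a ha => by rw [Multiset.eq_of_mem_replicate ha]; norm_num)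
        (by rw [Multiset.sum_replicate, Multiset.card_replicate, smul_eq_mul]; exact ⟨5 * l, by omega⟩)
      refine hz x ⟨2, by rw [hxo, lcm_replicate (by omega)]; norm_num⟩ ⟨0, by rw [add_zero]; exact hx⟩
    · obtain ⟨x, hx, hxo⟩ := exists_type (n := n) (Multiset.replicate k 4 + {2})
        (by rw [Multiset.sum_add, Multiset.sum_replicate, smul_eq_mul, Multiset.sum_singleton]; omega)
        (fun a ha => by
          rw [Multiset.mem_add] at ha
          rcases ha with h | h
          · rw [Multiset.eq_of_mem_replicate h]; norm_num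
          · rw [Multiset.mem_singleton.1 h])
        (by
          rw [Multiset.sum_add, Multiset.sum_replicate, Multiset.card_add, Multiset.card_replicate, smul_eq_mul,
            Multiset.sum_singleton, Multiset.card_singleton]
          exact ⟨5 * l + 4, by omega⟩)
      refine hz x ?_ ⟨{2}, hx⟩
      rw [hxo]
      apply hpow
      rw [Multiset.lcm_dvd]
      intro b hb
      rw [Multiset.mem_add] at hb
      rcases hb with h | h
      · rw [Multiset.eq_of_mem_replicate h]; decide
      · rw [Multiset.mem_singleton.1 h]; decide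
  · -- `n = 4 k + 3`
    refine key (4 ::ₘ Multiset.replicate (2 * k - 1) 2) (Or.inl ?_) ?_ ?_
    · rw [Multiset.sum_cons, Multiset.sum_replicate, smul_eq_mul]; omega
    · intro a ha
      rw [Multiset.mem_cons] at ha
      rcases ha with h | h
      · exact Or.inr (Or.inl h)
      · exact Or.inl (Multiset.eq_of_mem_replicate h)
    · rw [Multiset.sum_cons, Multiset.card_cons, Multiset.sum_replicate, Multiset.card_replicate, smul_eq_mul]
      exact ⟨3 * k + 1, by omega⟩

end Cfsg.Agent.H620.PNAlt

private theorem dce_f86a95de9808 : _root_.True := by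
  try have : _root_.True := by simp only [_root_.Cfsg.Agent.H620.PNAlt.bt.eq_1]
  exact _root_.True.intro
end
end
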