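import Cfsg.Agent.H678.PV.Cent
import Cfsg.Agent.LThreeFi23.CentUuComp
import Cfsg.Agent.Prune
set_option linter.all false
prune_inst 0x7f00000000000000000000000000000000000000000000000000000000000000000000000000000000000000000000000000000000000000000000000000000000000000000000000000000000000000003fffffffffffffffffffffffffffbeffbdffffffff
open scoped Cfsg.Agent.FastGrp

/-!
# `Fi23`, `p = 3` (helper678)

The product of two noncommuting transpositions has the centraliser `3 × Ω₇(3)`; the Steinberg character of `Ω₇(3)` gives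
a block with a defect group of order 3.
-/

set_option autoImplicit false

namespace Cfsg.Agent.H678.PV

open Cfsg Subgroup
open Cfsg.Agent.H665.NoPQ Cfsg.Agent.H713 Cfsg.Agent.H620.PNorm

universe u

namespace FiTT

open Cfsg.Agent.LThreeFi23

theorem hasDZ_CC : HasDZ 3 ↥CC := by
  have hfin : Finite ↥CC := Nat.finite_of_card_ne_zero (by rw [card_CC]; norm_num)
  have hs : IsSimpleGroup ↥CC := simple_CC
  refine hasDZ_lie (by norm_num) ?_ ?_
  · intro hc
    let _ : CommGroup ↥CC := { (inferInstance : Group ↥CC) with mul_comm := hc.is_comm.comm }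
    have h1 : (Nat.card ↥CC).Prime := IsSimpleGroup.prime_card
    rw [card_CC] at h1
    norm_num at h1
  · have : Fact (Nat.Prime 3) := ⟨by norm_num⟩
    exact Or.inr (Or.inr (Or.inr (Or.inl ⟨ZMod 3, inferInstance, inferInstance, inferInstance, 3, le_rfl, by
      rw [ZMod.card]; decide, ⟨eO⟩⟩)))

theorem main : VOrdP 3 Cfsg.Spor.Fi23 := by
  have h3 : Fact (Nat.Prime 3) := ⟨by norm_num⟩
  have : Finite Cfsg.Spor.Fi23 := Nat.finite_of_card_ne_zero (by rw [card_G]; norm_num)
  refine vOrdP_of_noncentral (x := uu) (K := CC) (n := 11) order_uu CC_le ?_ hasDZ_CC ?_ ?_ ?_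
  · intro c hc k hk
    have h := (normal_CU.conj_mem ⟨k, CC_le hk⟩ (mem_subgroupOf.2 hk) ⟨c, hc⟩)
    exact mem_subgroupOf.1 h
  · rw [card_C, card_CC, show (13756055040 : ℕ) = 3 * 4585351680 by norm_num,
      Nat.factorization_mul (by norm_num) (by norm_num), Finsupp.add_apply, (show (3 : ℕ).Prime by norm_num).factorization_self]
    omega
  · rw [card_G]; norm_num
  · rw [card_C]; norm_num

end FiTT

/-- **`Fi23`, `p = 3`.** -/
theorem fi23_3 {K : Type u} [Group K] (h : Spor.IsoFi23 K) : VOrdP 3 K := by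
  obtain ⟨e⟩ := h
  exact FiTT.main.mulEquiv e.symm

end Cfsg.Agent.H678.PV
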